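import Groth.Agent.Lefpen.H714.EulerAlg
import Mathlib.LinearAlgebra.Dimension.Free
import Mathlib.Algebra.Module.ZMod
import Mathlib.Data.Nat.Log
import Mathlib.FieldTheory.Finite.GaloisField

/-!
# Real-valued Euler characteristics of groups killed by a prime `ℓ`

`lg M = Nat.log ℓ (Nat.card M) * log ℓ` and `chi A = (∑ (-1)^i Nat.log ℓ (Nat.card (A i))) * log ℓ`;
`lg` of a finite product is the sum of the `lg`.
-/

set_option autoImplicit false

namespace Groth.Agent.Vancyc.H697.EulerConv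

open Groth.Agent.Lefpen.H714.EulerAlg

theorem exists_card_eq_pow (ℓ : ℕ) (hℓ : ℓ.Prime) (M : Type*) [AddCommGroup M] [Finite M]
    (h : ∀ x : M, ℓ • x = 0) : ∃ m : ℕ, Nat.card M = ℓ ^ m := by
  have : Fact ℓ.Prime := ⟨hℓ⟩
  let : Module (ZMod ℓ) M := AddCommGroup.zmodModule h
  exact ⟨Module.finrank (ZMod ℓ) M, (FiniteField.pow_finrank_eq_natCard ℓ M).symm⟩

theorem lg_eq_natLog (ℓ : ℕ) (hℓ : ℓ.Prime) (M : Type*) [AddCommGroup M] [Finite M]
    (h : ∀ x : M, ℓ • x = 0) : lg M = (Nat.log ℓ (Nat.card M) : ℝ) * Real.log ℓ := by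
  obtain ⟨m, hm⟩ := exists_card_eq_pow ℓ hℓ M h
  rw [lg, hm, Nat.log_pow hℓ.one_lt, Nat.cast_pow, Real.log_pow]

theorem log_ne_zero (ℓ : ℕ) (hℓ : ℓ.Prime) : Real.log ℓ ≠ 0 :=
  (Real.log_pos (by exact_mod_cast hℓ.one_lt)).ne'

/-- The real-valued Euler characteristic of a family killed by `ℓ` in terms of `Nat.log`. -/
theorem chi_eq_natLog (ℓ : ℕ) (hℓ : ℓ.Prime) (A : ℕ → Type*) [∀ n, AddCommGroup (A n)]
    (hfin : ∀ n, Finite (A n)) (h : ∀ (n : ℕ) (x : A n), ℓ • x = 0) (b : ℕ)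
    (hb : ∀ n, b < n → Subsingleton (A n)) :
    chi A = ((∑ n ∈ Finset.range (b + 1), (-1 : ℤ) ^ n * (Nat.log ℓ (Nat.card (A n)) : ℤ) : ℤ) : ℝ) *
      Real.log ℓ := by
  rw [chi_eq_sum b hb, Int.cast_sum, Finset.sum_mul]
  refine Finset.sum_congr rfl fun n _ => ?_
  have := hfin n
  rw [lg_eq_natLog ℓ hℓ (A n) (h n)]
  push_cast
  ring

theorem lg_pi {ι : Type*} (s : Finset ι) (M : ι → Type*) (h : ∀ i ∈ s, Finite (M i)) (h0 : ∀ i, Nonempty (M i)) :
    lg (∀ i : s, M i) = ∑ i ∈ s, lg (M i) := by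
  rw [lg, Nat.card_pi, Nat.cast_prod, Real.log_prod, ← Finset.sum_coe_sort s]
  · rfl
  · intro i _
    have := h i.1 i.2
    exact_mod_cast (Nat.card_pos (α := M i)).ne'

/-- For an exact sequence `0 → K → A → B → C → 0` of finite groups: `lg C - lg K = lg B - lg A`. -/
theorem lg_four {K A B C : Type*} [AddGroup K] [AddGroup A] [AddGroup B] [AddGroup C] (i : K →+ A) (u : A →+ B)
    (p : B →+ C) (hi : Function.Injective i) (h1 : Function.Exact i u) (h2 : Function.Exact u p)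
    (hp : Function.Surjective p) [Finite A] [Finite B] : lg C - lg K = lg B - lg A := by
  have a1 := lg_eq_rk_of_injective i hi
  have a2 := lg_eq_rk_add_rk i u h1
  have a3 := lg_eq_rk_add_rk u p h2
  have a4 : rk p = lg C := by
    rw [rk]
    refine lg_congr ((Equiv.subtypeUnivEquiv fun x => ?_))
    exact hp x
  rw [a1, a2, a3, a4]
  ring

end Groth.Agent.Vancyc.H697.EulerConv
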