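import Groth.Agent.Vancyc.H697.E4Core
import Groth.Agent.S0162
import Groth.Agent.EtpbcB.GeomPointIndep
import Groth.Agent.Etbase.StalkPull

/-!
# Stalks of nearby cycles are invariant under smooth localization

`nonempty_psiSt`: for a smooth `R`-morphism `p : W ⟶ X` the stalk of the nearby cycles of `ℤ/ℓ` (`ℓ` invertible in `R`) at a
geometric point of `W_s` is the stalk at any geometric point of `X_s` with the same image.
-/

set_option autoImplicit false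
set_option linter.auxLemma false
universe u
open CategoryTheory CategoryTheory.Limits CategoryTheory.Abelian AlgebraicGeometry Opposite

namespace Groth.Agent.Vancyc.H697.PsiEt

open Groth.Agent Groth.Agent.Vancyc.H697.E4Core

theorem isTorsionInvertibleOn_of_killedBy {S T : Scheme.{u}} {F : EtCoh.Ab T} {l : ℕ}
    (hl : IsUnit (l : Γ(S, ⊤))) (hF : EtCoh.KilledBy l F) : EtPBC.IsTorsionInvertibleOn S F := by
  intro U s x
  refine ⟨U, 𝟙 U, l, ⟨x, rfl⟩, hl, ?_⟩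
  have h1 := hF U (F.obj.map (𝟙 U : U ⟶ U).op s)
  exact h1

section

variable {R Ω : Type u} [CommRing R] [IsLocalRing R] [Field Ω] [Algebra R Ω]

/-- The stalk of `Ψ^q` as a stalk of `R^q jbar_*`. -/
noncomputable def psiStIso {X : Scheme.{u}} (f : X ⟶ Spec (CommRingCat.of R)) (ℓ : ℕ) {Ω' : Type u} [Field Ω']
    [IsSepClosed Ω'] (ξ : Spec (CommRingCat.of Ω') ⟶ VanCyc.spFib R f) (q : ℕ) :
    psiSt R Ω f ℓ ξ q ≅ (EtCoh.stalk (ξ ≫ VanCyc.icl R f)).obj ((EtCoh.Rpush (VanCyc.jA R f Ω) q).obj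
      (EtCoh.const (VanCyc.fib R f Ω) (ZMod ℓ))) :=
  ((Etbase.StalkPull.stalkPullIso (VanCyc.icl R f) ξ).app _).symm ≪≫
    (EtCoh.stalk (ξ ≫ VanCyc.icl R f)).mapIso ((EtCoh.Rpush (VanCyc.jA R f Ω) q).mapIso
      (EtCore.pullConst (VanCyc.jA R f Ω) (ZMod ℓ)))

variable {W X : Scheme.{u}} (f : X ⟶ Spec (CommRingCat.of R)) (f' : W ⟶ Spec (CommRingCat.of R))
    (p : W ⟶ X) (hp : p ≫ f = f')

/-- The map of geometric generic fibres. -/
noncomputable def fibMap : VanCyc.fib R f' Ω ⟶ VanCyc.fib R f Ω :=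
  pullback.lift (VanCyc.jA R f' Ω ≫ p) (VanCyc.fibStr R f' Ω) (by
    rw [Category.assoc, hp]; exact pullback.condition)

theorem fibMap_jA : fibMap (Ω := Ω) f f' p hp ≫ VanCyc.jA R f Ω = VanCyc.jA R f' Ω ≫ p :=
  pullback.lift_fst _ _ _

theorem fibMap_fibStr : fibMap (Ω := Ω) f f' p hp ≫ VanCyc.fibStr R f Ω = VanCyc.fibStr R f' Ω :=
  pullback.lift_snd _ _ _

theorem isPullback_fibMap :
    IsPullback (fibMap (Ω := Ω) f f' p hp) (VanCyc.jA R f' Ω) (VanCyc.jA R f Ω) p := by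
  have h1 : IsPullback (VanCyc.fibStr R f Ω) (VanCyc.jA R f Ω) (VanCyc.toS R Ω) f :=
    (IsPullback.of_hasPullback f (VanCyc.toS R Ω)).flip
  have h2 : IsPullback (fibMap (Ω := Ω) f f' p hp ≫ VanCyc.fibStr R f Ω) (VanCyc.jA R f' Ω)
      (VanCyc.toS R Ω) (p ≫ f) := by
    rw [fibMap_fibStr]
    subst hp
    exact (IsPullback.of_hasPullback (p ≫ f) (VanCyc.toS R Ω)).flip
  exact IsPullback.of_right h2 (fibMap_jA f f' p hp) h1

include hp in
/-- Smooth localization of the stalks of the nearby cycles. -/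
theorem nonempty_psiSt [Smooth p] (ℓ : ℕ) (hℓ : IsUnit (ℓ : R))
    {Ω₁ : Type u} [Field Ω₁] [IsSepClosed Ω₁] (ξ' : Spec (CommRingCat.of Ω₁) ⟶ VanCyc.spFib R f')
    {Ω₂ : Type u} [Field Ω₂] [IsSepClosed Ω₂] (ξ : Spec (CommRingCat.of Ω₂) ⟶ VanCyc.spFib R f)
    (h : p.base ((VanCyc.icl R f').base (ξ' default)) = (VanCyc.icl R f).base (ξ default)) (q : ℕ) :
    Nonempty (psiSt R Ω f' ℓ ξ' q ≅ psiSt R Ω f ℓ ξ q) := by
  have hS : IsUnit (ℓ : Γ(Spec (CommRingCat.of R), ⊤)) := by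
    have h1 := hℓ.map (Scheme.ΓSpecIso (CommRingCat.of R)).inv.hom
    rwa [map_natCast] at h1
  have hX : IsUnit (ℓ : Γ(X, ⊤)) := by
    have h1 := hS.map f.appTop.hom
    rwa [map_natCast] at h1
  have hqc : QuasiCompact (VanCyc.jA R f Ω) := inferInstance
  have hqs : QuasiSeparated (VanCyc.jA R f Ω) := inferInstance
  obtain ⟨e1⟩ := (S0162.result p (VanCyc.jA R f Ω) (VanCyc.jA R f' Ω) (fibMap f f' p hp)
    (isPullback_fibMap f f' p hp) (EtCoh.const (VanCyc.fib R f Ω) (ZMod ℓ))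
    (isTorsionInvertibleOn_of_killedBy hX (Vancyc.H679.GoodSing.killedBy_const _ ℓ)) q).1
  obtain ⟨e2⟩ := EtpbcB.GeomPointIndep.nonempty_stalkIso ((ξ' ≫ VanCyc.icl R f') ≫ p) (ξ ≫ VanCyc.icl R f) (by
    rw [Scheme.Hom.comp_apply, Scheme.Hom.comp_apply, Scheme.Hom.comp_apply]
    exact h)
  refine ⟨psiStIso f' ℓ ξ' q ≪≫ ?_ ≪≫ (e2.app _) ≪≫ (psiStIso f ℓ ξ q).symm⟩
  refine ?_ ≪≫ ((Etbase.StalkPull.stalkPullIso p (ξ' ≫ VanCyc.icl R f')).app _).symm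
  exact (EtCoh.stalk (ξ' ≫ VanCyc.icl R f')).mapIso
    ((EtCoh.Rpush (VanCyc.jA R f' Ω) q).mapIso (EtCore.pullConst (fibMap f f' p hp) (ZMod ℓ)).symm ≪≫ e1.symm)

end

end Groth.Agent.Vancyc.H697.PsiEt
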