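import Groth.Agent.Vancyc.H697.E4
import Groth.Agent.Vancyc.H697.PsiEt
import Groth.Agent.Vancyc.H588.AsmDefs

/-!
# The two inputs `E4` and `PsiEt` of the assembly of S4015
-/

set_option autoImplicit false
set_option linter.auxLemma false
universe u
open CategoryTheory CategoryTheory.Limits AlgebraicGeometry

namespace Groth.Agent.Vancyc.H697.AsmIn

open Groth.Agent Groth.Agent.Vancyc.H588

theorem e4 : AsmDefs.E4.{u} := by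
  intro R K Ω _ _ _ hR _ _ _ _ _ _ _ _ ℓ hℓ hℓR X f _ _ n hd2 hd1 V hV Sig hSc hSV Ω' _ _ ξ hξ
  obtain ⟨m1, m2, m3⟩ := E4.e4 R K Ω hR f n hd1 hd2 Sig hSc (fun x hx => ⟨V, hSV x hx, hV⟩) ℓ hℓ hℓR Ω' ξ hξ
  exact ⟨fun x hx => ⟨m1 x hx, m2 x hx⟩, m3⟩

theorem psiEt : AsmDefs.PsiEt.{u} := by
  intro R Ω _ _ _ hR _ _ _ ℓ hℓ hℓR W X fW f _ p _ hp Ω₁ _ _ ξ₁ Ω₂ _ _ ξ₂ h q
  obtain ⟨e⟩ := PsiEt.nonempty_psiSt (Ω := Ω) f fW p hp ℓ hℓR ξ₁ ξ₂ h q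
  exact ⟨e.addCommGroupIsoToAddEquiv⟩

end Groth.Agent.Vancyc.H697.AsmIn
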