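import Groth.Agent.Vancyc.H517.Family
import Groth.Agent.Vancyc.H517.HypBC
import Groth.Agent.VarietyB.DimTop
import Mathlib.RingTheory.KrullDimension.NonZeroDivisors
import Mathlib.RingTheory.KrullDimension.Polynomial
import Mathlib.RingTheory.KrullDimension.Field

/-!
# Dimension of projective hypersurfaces over a field and of the fibres of the family `g = t`
-/

set_option autoImplicit false
universe u
open CategoryTheory CategoryTheory.Limits AlgebraicGeometry MvPolynomial
open Groth.Agent.Lefpen.H713.HypProj Groth.Agent.Vancyc.H517.HypJac Groth.Agent.Vancyc.H517.Homog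
open Groth.Agent.Vancyc.H517.Bdry Groth.Agent.Vancyc.H517.Family Groth.Agent.Vancyc.H517.HypBC
open Groth.Agent.Sga5.ProjChart Groth.Agent.Sga5.ProjSmooth Groth.Agent.Sga5.ProjHyper

namespace Groth.Agent.Vancyc.H697.DimFib

section Field

variable {κ : Type u} [Field κ]

theorem dehom_ne_zero {n d : ℕ} (i : Fin (n + 1)) (x : MvPolynomial (Fin (n + 1)) κ) (hx : x.IsHomogeneous d)
    (h0 : x ≠ 0) : dehom n κ i x ≠ 0 := by
  intro h
  have h1 := val_ofPoly_dehom n κ i d x hx
  rw [h, map_zero, HomogeneousLocalization.val_zero, zero_mul] at h1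
  have hinj : Function.Injective (aM n κ i) :=
    IsLocalization.injective (Localization.Away (X i : MvPolynomial (Fin (n + 1)) κ))
      (powers_le_nonZeroDivisors_of_noZeroDivisors (X_ne_zero i))
  exact h0 (hinj (by rw [← h1, map_zero]))

theorem le_of_add_one_le {d : WithBot ℕ∞} {n : ℕ} (h : d + 1 ≤ ((n + 1 : ℕ) : WithBot ℕ∞)) : d ≤ n := by
  induction d using WithBot.recBotCoe with
  | bot => exact bot_le
  | coe d =>
    induction d using ENat.recTopCoe with
    | top =>
      exfalso
      have h2 : ((⊤ : ℕ∞) : WithBot ℕ∞) + 1 = ((⊤ : ℕ∞) : WithBot ℕ∞) := rfl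
      rw [h2] at h
      have h3 : (⊤ : ℕ∞) ≤ ((n + 1 : ℕ) : ℕ∞) := by exact_mod_cast h
      exact absurd (top_le_iff.1 h3) (ENat.natCast_ne_top _)
    | coe m =>
      have h3 : m + 1 ≤ n + 1 := by exact_mod_cast h
      exact_mod_cast Nat.le_of_succ_le_succ h3

theorem dim_quot {n : ℕ} (F : MvPolynomial (Fin (n + 1)) κ) (hF : F ≠ 0) :
    ringKrullDim (MvPolynomial (Fin (n + 1)) κ ⧸ Ideal.span {F}) ≤ n := by
  have h1 := ringKrullDim_quotient_succ_le_of_nonZeroDivisor (mem_nonZeroDivisors_of_ne_zero hF)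
  rw [MvPolynomial.ringKrullDim_of_isNoetherianRing, ringKrullDim_eq_zero_of_field, Nat.card_fin, zero_add] at h1
  exact le_of_add_one_le h1

theorem dim_hyp {n d : ℕ} (q : ↥(CohB1.polyGrading (n + 1) κ d)) (hq : q.1 ≠ 0) :
    topologicalKrullDim ↥(Hyp q) ≤ n := by
  refine Groth.Agent.VarietyB.DimTop.topologicalKrullDim_le_of_forall fun x => ?_
  obtain ⟨i, hi⟩ := exists_mem_chartH q x
  refine ⟨(chartH q i).opensRange, hi, ?_⟩
  have h1 := ((chartH q i).isoOpensRange.hom.homeomorph).isHomeomorph.topologicalKrullDim_eq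
  change topologicalKrullDim ↥((chartH q i).opensRange : Scheme.{u}) ≤ n
  rw [← h1]
  change topologicalKrullDim (PrimeSpectrum (ChR q i)) ≤ n
  rw [PrimeSpectrum.topologicalKrullDim_eq_ringKrullDim]
  exact dim_quot _ (dehom_ne_zero i q.1 q.2 hq)

end Field

section Fam

variable {k : Type u} [Field k] {n : ℕ}

theorem coeff_single_of_lt {N : ℕ} (hN : 2 ≤ N) {g : MvPolynomial (Fin (n + 1)) k}
    (hg : (g - ∑ i, X i ^ N).totalDegree < N) : coeff (Finsupp.single 0 N) g = 1 := by
  have h1 : coeff (Finsupp.single 0 N) (g - ∑ i, X i ^ N) = 0 := by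
    refine coeff_eq_zero_of_totalDegree_lt (hg.trans_le ?_)
    change N ≤ Finsupp.degree (Finsupp.single (0 : Fin (n + 1)) N)
    rw [Finsupp.degree_single]
  have h2 : coeff (Finsupp.single 0 N) (∑ i : Fin (n + 1), X i ^ N : MvPolynomial (Fin (n + 1)) k) = 1 := by
    rw [coeff_sum, Finset.sum_eq_single 0]
    · rw [coeff_X_pow, if_pos rfl]
    · intro i _ hi
      rw [coeff_X_pow, if_neg]
      intro h
      have h3 := DFunLike.congr_fun h i
      rw [Finsupp.single_eq_same, Finsupp.single_eq_of_ne (by exact hi)] at h3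
      omega
    · intro h
      exact absurd (Finset.mem_univ _) h
  rw [coeff_sub, h2, sub_eq_zero] at h1
  exact h1

theorem map_hform_ne_zero (κ : Type u) [Field κ] (ψ : Polynomial k →+* κ) {N : ℕ} (hN : 2 ≤ N)
    {g : MvPolynomial (Fin (n + 1)) k} (hg : (g - ∑ i, X i ^ N).totalDegree < N) :
    (mapForm ψ (hform N (fp (RingHom.id (Polynomial k)) g))).1 ≠ 0 := by
  intro h
  have h1 : killLast (n + 1) κ (MvPolynomial.map ψ (homog N (fp (RingHom.id (Polynomial k)) g))) = 0 := by
    change killLast (n + 1) κ ((mapForm ψ (hform N (fp (RingHom.id (Polynomial k)) g))).1) = 0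
    rw [h, map_zero]
  rw [map_homog, killLast_homog] at h1
  have h2 := congrArg (coeff (Finsupp.single 0 N)) h1
  rw [coeff_homogeneousComponent, if_pos (Finsupp.degree_single _ _), coeff_zero, fp, map_sub, map_C, MvPolynomial.map_map,
    coeff_sub, coeff_map, coeff_single_of_lt hN hg, map_one, coeff_C, if_neg, sub_zero] at h2
  · exact one_ne_zero h2
  · intro h3
    have h4 := DFunLike.congr_fun h3 0
    rw [Finsupp.single_eq_same, Finsupp.coe_zero, Pi.zero_apply] at h4
    omega

/-- every fibre (over a field) of the compactified family `g = t` has dimension at most `n` -/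
theorem dim_fiber (κ : Type u) [Field κ] (ψ : Polynomial k →+* κ) {N : ℕ} (hN : 2 ≤ N)
    {g : MvPolynomial (Fin (n + 1)) k} (hg : (g - ∑ i, X i ^ N).totalDegree < N) :
    topologicalKrullDim ↥(pullback (toSpec (hform N (fp (RingHom.id (Polynomial k)) g)))
      (Spec.map (CommRingCat.ofHom ψ))) ≤ n := by
  have hp := (isPullback_bc ψ (hform N (fp (RingHom.id (Polynomial k)) g)))
  rw [((hp.flip.isoPullback ≪≫ pullbackSymmetry _ _).hom.homeomorph.isHomeomorph.topologicalKrullDim_eq).symm]
  exact dim_hyp _ (map_hform_ne_zero κ ψ hN hg)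

end Fam

end Groth.Agent.Vancyc.H697.DimFib
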