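import Groth.Agent.Vancyc.H697.E4Core
import Groth.Agent.S3095
import Groth.Agent.S3993
import Groth.Agent.S0185
import Groth.Agent.EtpbcA.CdTwoDim

/-!
# Euler characteristic of nearby cycles for a proper scheme over a strictly henselian trait

`e4`: `ec (X_Ω) - ec (X_s) = ∑_{x ∈ Sig} (χ(Ψ_x) - log ℓ)`, finiteness of the stalks and vanishing above `2n`.
-/

set_option autoImplicit false
set_option linter.auxLemma false
universe u
open CategoryTheory CategoryTheory.Limits CategoryTheory.Abelian AlgebraicGeometry Opposite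

namespace Groth.Agent.Vancyc.H697.E4

open Groth.Agent Groth.Agent.Vancyc.H679.PropLES Groth.Agent.Lefpen.H714.EulerEt
open Groth.Agent.Vancyc.H697.E4Core
open Groth.Agent.Lefpen.H714.EulerAlg (lg chi lg_congr chi_congr chi_eq_sum lg_of_subsingleton)

/-- Finite cohomology, zero above twice the dimension, for a proper scheme over a separably closed field. -/
theorem finite_field (k : Type u) [Field k] [IsSepClosed k] {X : Scheme.{u}} (f : X ⟶ Spec (CommRingCat.of k))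
    [IsProper f] (n : ℕ) (hd : topologicalKrullDim X ≤ n) (ℓ : ℕ) (hℓ : 0 < ℓ) :
    (∀ q, Finite (EtCoh.H X (EtCoh.const X (ZMod ℓ)) q)) ∧
      ∀ q, 2 * n < q → Subsingleton (EtCoh.H X (EtCoh.const X (ZMod ℓ)) q) := by
  have : NeZero ℓ := ⟨hℓ.ne'⟩
  have hk : EtCoh.KilledBy ℓ (EtCoh.const X (ZMod ℓ)) := Vancyc.H679.GoodSing.killedBy_const X ℓ
  refine ⟨fun q => S0185.result X f ℓ hℓ _ (Etrest.ConstBasic.isConstructible_const X (ZMod ℓ)) hk q, fun q hq => ?_⟩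
  exact EtpbcA.CdTwoDim.cohDimLE_two_mul X f n hd (EtCoh.const X (ZMod ℓ))
    (Etrest.ConstBasic.isTorsion_of_killedBy hℓ hk) q hq

theorem goodE_field (k : Type u) [Field k] [IsSepClosed k] {X : Scheme.{u}} (f : X ⟶ Spec (CommRingCat.of k))
    [IsProper f] (n : ℕ) (hd : topologicalKrullDim X ≤ n) (ℓ : ℕ) (hℓ : 0 < ℓ) :
    GoodE X (EtCoh.const X (ZMod ℓ)) where
  fin := (finite_field k f n hd ℓ hℓ).1
  bdd := ⟨2 * n, (finite_field k f n hd ℓ hℓ).2⟩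

/-- Proper base change over a henselian local ring. -/
theorem pbc (R : Type u) [CommRing R] [HenselianLocalRing R] {X : Scheme.{u}} (f : X ⟶ Spec (CommRingCat.of R))
    [IsProper f] [PreservesFiniteLimits (EtCoh.pull (VanCyc.icl R f))] : PBCi (VanCyc.icl R f) :=
  fun P hP q => S3095.result R X f P hP q

/-- Cohomology of `X` is cohomology of the special fibre. -/
theorem nonempty_H_spFib (R : Type u) [CommRing R] [HenselianLocalRing R] {X : Scheme.{u}}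
    (f : X ⟶ Spec (CommRingCat.of R)) [IsProper f] (ℓ : ℕ) (hℓ : 0 < ℓ) (q : ℕ) :
    Nonempty (EtCoh.H X (EtCoh.const X (ZMod ℓ)) q ≃
      EtCoh.H (VanCyc.spFib R f) (EtCoh.const (VanCyc.spFib R f) (ZMod ℓ)) q) := by
  have p1 : PreservesFiniteLimits (EtCoh.pull (VanCyc.icl R f)) := S0101.result _
  have h1 := pbc R f (EtCoh.const X (ZMod ℓ)) (Etrest.ConstBasic.isTorsion_of_killedBy hℓ
    (Vancyc.H679.GoodSing.killedBy_const X ℓ)) q
  exact ⟨(Equiv.ofBijective _ h1).trans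
    (nonempty_H_iso (EtCore.pullConst (VanCyc.icl R f) (ZMod ℓ)) q).some⟩

theorem ec_eq_spFib (R : Type u) [CommRing R] [HenselianLocalRing R] {X : Scheme.{u}}
    (f : X ⟶ Spec (CommRingCat.of R)) [IsProper f] (ℓ : ℕ) (hℓ : 0 < ℓ) :
    ec ℓ X = ec ℓ (VanCyc.spFib R f) := e_congr fun q => nonempty_H_spFib R f ℓ hℓ q

theorem e4 (R K Ω : Type u) [CommRing R] [IsDomain R] [IsDiscreteValuationRing R]
    (hR : EtCoh.IsStrictlyHenselianLocalRing R) [Field K] [Algebra R K] [IsFractionRing R K] [Field Ω] [Algebra K Ω]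
    [IsSepClosure K Ω] [Algebra R Ω] [IsScalarTower R K Ω]
    {X : Scheme.{u}} (f : X ⟶ Spec (CommRingCat.of R)) [IsProper f] (n : ℕ)
    (hd1 : topologicalKrullDim ↥(VanCyc.spFib R f) ≤ n) (hd2 : topologicalKrullDim ↥(VanCyc.fib R f Ω) ≤ n)
    (Sig : Finset ↥(VanCyc.spFib R f)) (hSc : ∀ x ∈ Sig, IsClosed ({x} : Set ↥(VanCyc.spFib R f)))
    (hU : ∀ x : ↥(VanCyc.spFib R f), x ∉ Sig → ∃ U : X.Opens, (VanCyc.icl R f).base x ∈ U ∧ Smooth (U.ι ≫ f))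
    (ℓ : ℕ) (hℓ : ℓ.Prime) (hℓR : IsUnit (ℓ : R))
    (Ω' : ↥(VanCyc.spFib R f) → Type u) [∀ x, Field (Ω' x)] [∀ x, IsSepClosed (Ω' x)]
    (ξ : ∀ x, Spec (CommRingCat.of (Ω' x)) ⟶ VanCyc.spFib R f) (hξ : ∀ x, ξ x default = x) :
    (∀ x ∈ Sig, ∀ q, Finite ↥(psiSt R Ω f ℓ (ξ x) q)) ∧
    (∀ x ∈ Sig, ∀ q, 2 * n < q → Subsingleton ↥(psiSt R Ω f ℓ (ξ x) q)) ∧
    ec ℓ (VanCyc.fib R f Ω) - ec ℓ (VanCyc.spFib R f) =
      ∑ x ∈ Sig, (chi (fun q => ↥(psiSt R Ω f ℓ (ξ x) q)) - Real.log ℓ) := by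
  obtain ⟨hH, hS⟩ := hR
  have hΩ : IsSepClosed Ω := IsSepClosure.sep_closed K
  have gB := goodE_field Ω (VanCyc.fibStr R f Ω) n hd2 ℓ hℓ.pos
  have gS := goodE_field (IsLocalRing.ResidueField R) (VanCyc.spStr R f) n hd1 ℓ hℓ.pos
  have fS := finite_field (IsLocalRing.ResidueField R) (VanCyc.spStr R f) n hd1 ℓ hℓ.pos
  have fB := finite_field Ω (VanCyc.fibStr R f Ω) n hd2 ℓ hℓ.pos
  have gA : GoodE X (EtCoh.const X (ZMod ℓ)) :=
    gS.congr fun q => ⟨(nonempty_H_spFib R f ℓ hℓ.pos q).some.symm⟩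
  obtain ⟨m1, m2, m3⟩ := e4_of R Ω f (fun {_} => pbc R f) Sig hSc ℓ hℓ (fun x hx Ω'' _ _ ξ' hξ' => by
      obtain ⟨U, hxU, hUs⟩ := hU x hx
      exact S3993.result R K Ω ⟨hH, hS⟩ f U hUs x hxU ξ'
        (Vancyc.H679.GoodSing.base_closedPoint ξ' x hξ') ℓ hℓR (EtCoh.const X (ZMod ℓ))
        (Vancyc.H679.GoodSing.isLocallyConstant_const X (ZMod ℓ)) (Vancyc.H679.GoodSing.killedBy_const X ℓ))
    gA gB Ω' ξ hξ
  refine ⟨fun x hx q => (m1 x hx).fin q, fun x hx q hq => m2 q (by omega) (fB.2 q hq) ?_ x hx, ?_⟩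
  · have h5 := fS.2 (q + 1) (by omega)
    exact (nonempty_H_spFib R f ℓ hℓ.pos (q + 1)).some.subsingleton
  · rw [← ec_eq_spFib R f ℓ hℓ.pos]
    exact m3

end Groth.Agent.Vancyc.H697.E4
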