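import Groth.Agent.Vancyc.H697.PunctEuler
import Groth.Agent.Vancyc.H679.GoodSing
import Groth.Agent.Sga4B.StalkLocal

/-!
# Euler characteristic of nearby cycles for a proper scheme over a strictly henselian ring, from the inputs

`e4_of`: proper base change for `icl`, no vanishing cycles outside `Sig`, finite cohomology of `X` and of the geometric
generic fibre give `e(X_Ω) - e(X) = ∑_{x ∈ Sig} (χ(Ψ_x) - log ℓ)`, with finiteness and vanishing of the stalks `Ψ^q_x`.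
-/

set_option autoImplicit false
set_option linter.auxLemma false
universe u
open CategoryTheory CategoryTheory.Limits CategoryTheory.Abelian AlgebraicGeometry Opposite

namespace Groth.Agent.Vancyc.H697.E4Core

open Groth.Agent Groth.Agent.Vancyc.H679.PropLES Groth.Agent.Lefpen.H714.EulerEt
open Groth.Agent.Lefpen.H714.EulerAlg (lg chi lg_congr chi_congr chi_eq_sum lg_of_subsingleton)

/-- The stalk of the nearby cycles of `ℤ/ℓ` in degree `q`. -/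
noncomputable abbrev psiSt (R Ω : Type u) [CommRing R] [IsLocalRing R] [Field Ω] [Algebra R Ω] {X : Scheme.{u}}
    (f : X ⟶ Spec (CommRingCat.of R)) (ℓ : ℕ) {Ω' : Type u} [Field Ω'] [IsSepClosed Ω']
    (ξ : Spec (CommRingCat.of Ω') ⟶ VanCyc.spFib R f) (q : ℕ) : AddCommGrpCat.{u + 1} :=
  (EtCoh.stalk ξ).obj (VanCyc.psi R Ω f q ((EtCoh.pull (VanCyc.jA R f Ω)).obj (EtCoh.const X (ZMod ℓ))))

/-- Isomorphic schemes have the same Euler characteristic. -/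
theorem ec_of_isIso (ℓ : ℕ) {A B : Scheme.{u}} (f : A ⟶ B) [IsIso f] : ec ℓ A = ec ℓ B :=
  (e_congr fun n => ⟨(Sga4B.StalkLocal.nonempty_H_const_equiv f (ZMod ℓ) n).some.toEquiv⟩).symm

theorem ec_iso (ℓ : ℕ) {A B : Scheme.{u}} (f : A ≅ B) : ec ℓ A = ec ℓ B := ec_of_isIso ℓ f.hom

theorem e_pull_const (ℓ : ℕ) {A B : Scheme.{u}} (f : A ⟶ B) :
    e A ((EtCoh.pull f).obj (EtCoh.const B (ZMod ℓ))) = ec ℓ A := e_iso (EtCore.pullConst f (ZMod ℓ))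

theorem goodE_pull_const (ℓ : ℕ) {A B : Scheme.{u}} (f : A ⟶ B) (h : GoodE A (EtCoh.const A (ZMod ℓ))) :
    GoodE A ((EtCoh.pull f).obj (EtCoh.const B (ZMod ℓ))) := h.iso (EtCore.pullConst f (ZMod ℓ)).symm

theorem lg_zmod (ℓ : ℕ) : lg (ZMod ℓ) = Real.log ℓ := by rw [lg, Nat.card_zmod]

section Main

variable (R Ω : Type u) [CommRing R] [IsLocalRing R] [IsSepClosed (IsLocalRing.ResidueField R)]
    [Field Ω] [Algebra R Ω] {X : Scheme.{u}} (f : X ⟶ Spec (CommRingCat.of R)) [IsProper f]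
    (hi : ∀ [PreservesFiniteLimits (EtCoh.pull (VanCyc.icl R f))], PBCi (VanCyc.icl R f))
    (Sig : Finset ↥(VanCyc.spFib R f)) (hSc : ∀ x ∈ Sig, IsClosed ({x} : Set ↥(VanCyc.spFib R f)))
    (ℓ : ℕ) (hℓ : ℓ.Prime)
    (h1 : ∀ x : ↥(VanCyc.spFib R f), x ∉ Sig →
      Good (VanCyc.icl R f) (VanCyc.jA R f Ω) (EtCoh.const X (ZMod ℓ)) x)
    (gA : GoodE X (EtCoh.const X (ZMod ℓ)))
    (gB : GoodE (VanCyc.fib R f Ω) (EtCoh.const (VanCyc.fib R f Ω) (ZMod ℓ)))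
    (Ω' : ↥(VanCyc.spFib R f) → Type u) [∀ x, Field (Ω' x)] [∀ x, IsSepClosed (Ω' x)]
    (ξ : ∀ x, Spec (CommRingCat.of (Ω' x)) ⟶ VanCyc.spFib R f) (hξ : ∀ x, ξ x default = x)

include hi hSc hℓ h1 gA gB hξ in
theorem e4_of :
    (∀ x ∈ Sig, Groth.Agent.Lefpen.H714.EulerAlg.Good (fun q => ↥(psiSt R Ω f ℓ (ξ x) q))) ∧
    (∀ q, 1 ≤ q → Subsingleton (EtCoh.H (VanCyc.fib R f Ω) (EtCoh.const (VanCyc.fib R f Ω) (ZMod ℓ)) q) →
      Subsingleton (EtCoh.H X (EtCoh.const X (ZMod ℓ)) (q + 1)) →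
      ∀ x ∈ Sig, Subsingleton ↥(psiSt R Ω f ℓ (ξ x) q)) ∧
    ec ℓ (VanCyc.fib R f Ω) - ec ℓ X =
      ∑ x ∈ Sig, (chi (fun q => ↥(psiSt R Ω f ℓ (ξ x) q)) - Real.log ℓ) := by
  have hN : 0 < ℓ := hℓ.pos
  have : NeZero ℓ := ⟨hℓ.ne_zero⟩
  have p1 : PreservesFiniteLimits (EtCoh.pull (VanCyc.icl R f)) := S0101.result _
  have p2 : PreservesFiniteLimits (EtCoh.pull (VanCyc.jA R f Ω)) := S0101.result _
  have hs : ∀ x ∈ Sig, IsSepClosed ((VanCyc.spFib R f).residueField x) := fun x hx =>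
    CurvesA.ClosedPtSep.isSepClosed_residueField (VanCyc.spStr R f) x (hSc x hx)
  have hst : ∀ x, Nonempty (↥(PunctEuler.st (VanCyc.icl R f) Ω' ξ (EtCoh.const X (ZMod ℓ)) x) ≃ ZMod ℓ) := fun x =>
    ⟨(((EtCoh.stalk (ξ x)).mapIso (EtCore.pullConst (VanCyc.icl R f) (ZMod ℓ))).addCommGroupIsoToAddEquiv.trans
      (Sga4B.StalkLocal.nonempty_stalk_const (ZMod ℓ) (ξ x)).some).toEquiv⟩
  obtain ⟨m1, m2, m3⟩ := PunctEuler.main (VanCyc.icl R f) hi Sig hSc hs (VanCyc.jA R f Ω) hN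
    (EtCoh.const X (ZMod ℓ)) (Vancyc.H679.GoodSing.killedBy_const X ℓ) Ω' ξ hξ h1
    (fun x _ => Finite.of_equiv _ (hst x).some.symm) gA (goodE_pull_const ℓ _ gB)
  refine ⟨m1, fun q hq h3 h4 => m2 q hq ?_ h4, ?_⟩
  · exact (nonempty_H_iso (EtCore.pullConst (VanCyc.jA R f Ω) (ZMod ℓ)) q).some.subsingleton
  · rw [e_pull_const] at m3
    refine m3.trans (Finset.sum_congr rfl fun x _ => ?_)
    rw [lg_congr (hst x).some, lg_zmod]

end Main

end Groth.Agent.Vancyc.H697.E4Core
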