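import Groth.Agent.Vancyc.H679.AdjLES
import Groth.Agent.Lefpen.H714.EulerD

/-!
# The Euler characteristic of a map whose cone has acyclic rows

For a distinguished triangle `Y ⟶ T ⟶ C ⟶ Y⟦1⟧` in `D(B)` and `Z ∈ B` such that all `Ext^j(Z, H^q C)`, `j ≥ 1`,
vanish: `Hom(Z[0], C[n]) = Hom(Z, H^n C)` and `χ(T) - χ(Y) = ∑_{n ≥ 0} (-1)^n lg Hom(Z, H^n C) - lg Hom(Z, H^{-1} C)`.
-/

set_option autoImplicit false
universe w₁ w₂ w w' v v' u u'
open CategoryTheory CategoryTheory.Limits CategoryTheory.Pretriangulated DerivedCategory Opposite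
open CategoryTheory.Abelian

namespace Groth.Agent.Vancyc.H697.MultiRow

open Groth.Agent.Lefpen.H714.EulerAlg Groth.Agent.Lefpen.H714.EulerD Groth.Agent.Sga4B
open Groth.Agent.Vancyc.H679.ConeLES DerivedCategory.TStructure

/-- `chi` in a long exact sequence with one more term on the left. -/
theorem chi_add' {A B C : ℕ → Type*} {K : Type*} [∀ n, AddGroup (A n)] [∀ n, AddGroup (B n)]
    [∀ n, AddGroup (C n)] [AddGroup K]
    (k : K →+ A 0) (f : ∀ n, A n →+ B n) (g : ∀ n, B n →+ C n) (h : ∀ n, C n →+ A (n + 1))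
    (hk : Function.Injective k) (h0 : Function.Exact k (f 0)) (h1 : ∀ n, Function.Exact (f n) (g n))
    (h2 : ∀ n, Function.Exact (g n) (h n)) (h3 : ∀ n, Function.Exact (h n) (f (n + 1)))
    (hA : Good A) (hB : Good B) (hC : Good C) : chi B - chi A = chi C - lg K := by
  obtain ⟨a, ha⟩ := hA.bdd
  obtain ⟨b, hb⟩ := hB.bdd
  obtain ⟨c, hc⟩ := hC.bdd
  let N := max a (max b c) + 1
  have hN1 : a < N := by have := le_max_left a (max b c); omega
  have hN2 : b < N := by
    have := le_max_right a (max b c); have := le_max_left b c; omega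
  have hN3 : c < N := by
    have := le_max_right a (max b c); have := le_max_right b c; omega
  rw [chi_eq_sum N (fun n hn => hb n (by omega)), chi_eq_sum N (fun n hn => ha n (by omega)),
    chi_eq_sum N (fun n hn => hc n (by omega))]
  have kA0 : lg (A 0) = lg K + rk (f 0) := by
    have := hA.fin 0
    rw [lg_eq_rk_add_rk k (f 0) h0, ← lg_eq_rk_of_injective k hk]
  have kA : ∀ n, lg (A (n + 1)) = rk (h n) + rk (f (n + 1)) := fun n => by
    have := hA.fin (n + 1)
    exact lg_eq_rk_add_rk _ _ (h3 n)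
  have kB : ∀ n, lg (B n) = rk (f n) + rk (g n) := fun n => by
    have := hB.fin n
    exact lg_eq_rk_add_rk _ _ (h1 n)
  have kC : ∀ n, lg (C n) = rk (g n) + rk (h n) := fun n => by
    have := hC.fin n
    exact lg_eq_rk_add_rk _ _ (h2 n)
  have key : ∀ M : ℕ, ∑ n ∈ Finset.range (M + 1), (-1 : ℝ) ^ n * lg (B n) -
      ∑ n ∈ Finset.range (M + 1), (-1 : ℝ) ^ n * lg (A n) =
        ∑ n ∈ Finset.range (M + 1), (-1 : ℝ) ^ n * lg (C n) - lg K - (-1) ^ M * rk (h M) := by
    intro M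
    induction M with
    | zero =>
      simp [kA0, kB, kC]
      ring
    | succ M ih =>
      rw [Finset.sum_range_succ, Finset.sum_range_succ _ (M + 1), Finset.sum_range_succ _ (M + 1),
        kA, kB, kC]
      linear_combination ih
  rw [key N]
  have : Subsingleton (C N) := hc N hN3
  rw [rk_of_subsingleton_source (h N)]
  ring

section D

variable {B : Type u} [Category.{v} B] [Abelian B] [HasDerivedCategory.{w'} B] [HasExt.{w} B]

/-- `Hom(Z[0], C[n]) ≃ Hom(Z, H^n C)` if the rows of `C` are acyclic for `Hom(Z, -)`. -/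
theorem nonempty_equiv_row (a n : ℤ) (Z : B) (C : DerivedCategory B) [hC : C.IsGE a]
    (h : ∀ (q : ℤ) (j : ℕ), 1 ≤ j → Subsingleton (Ext.{w} Z ((homologyFunctor B q).obj C) j)) :
    Nonempty (((singleFunctor B 0).obj Z ⟶ C⟦n⟧) ≃+ Ext.{w} Z ((homologyFunctor B n).obj C) 0) := by
  have hT := t.triangleLEGE_distinguished n (n + 1) rfl C
  have i1 : ((t.truncLE n).obj C).IsLE n := (inferInstance : t.IsLE ((t.truncLE n).obj C) n)
  have i2 : ((t.truncLE n).obj C).IsGE a := by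
    have : t.IsGE C a := hC
    exact (inferInstance : t.IsGE ((t.truncLE n).obj C) a)
  have hb := ExtTrunc.hi_bijective.{w} a n n 0 (by simp) Z ((t.truncLE n).obj C) (fun q j _ hq hj => by
    have h3 := DTrunc.isIso_homology_truncLE n q hq.le C
    exact subsingleton_ext_iso (asIso ((homologyFunctor B q).map ((t.truncLEι n).app C))).symm j
      (h q j (by lia)))
  let e1 := AddEquiv.ofBijective _ hb
  let c : ((singleFunctor B 0).obj Z ⟶ ((t.truncLE n).obj C)⟦n⟧) →+ ((singleFunctor B 0).obj Z ⟶ C⟦n⟧) :=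
    { toFun := fun f => f ≫ ((t.truncLEι n).app C)⟦n⟧'
      map_zero' := zero_comp
      map_add' := fun _ _ => Preadditive.add_comp _ _ _ _ _ _ }
  have hc : Function.Bijective c := by
    constructor
    · rw [injective_iff_map_eq_zero]
      intro f hf
      obtain ⟨n', rfl⟩ : ∃ n' : ℤ, n = n' + 1 := ⟨n - 1, by lia⟩
      obtain ⟨g, hg⟩ := ExtTrunc.exact₁ _ _ hT n' f hf
      have h4 : g = 0 := by
        have : t.IsGE ((t.truncGE (n' + 1 + 1)).obj C) (n' + 1) :=
          t.isGE_of_ge _ (n' + 1) (n' + 1 + 1) (by lia)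
        exact hom_eq_zero_of_isGE n' Z _ this _
      rw [← hg, h4]
      exact zero_comp
    · intro f
      obtain ⟨g, hg⟩ := ExtTrunc.exact₂ _ _ hT n f (hom_eq_zero_of_isGE n Z _
        (inferInstance : t.IsGE ((t.truncGE (n + 1)).obj C) (n + 1)) _)
      exact ⟨g, hg⟩
  have h5 := DTrunc.isIso_homology_truncLE n n le_rfl C
  let e3 : Ext.{w} Z ((homologyFunctor B n).obj ((t.truncLE n).obj C)) 0 ≃+
      Ext.{w} Z ((homologyFunctor B n).obj C) 0 :=
    { toFun := fun x => x.comp (Ext.mk₀ ((homologyFunctor B n).map ((t.truncLEι n).app C))) (add_zero 0)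
      invFun := fun x => x.comp (Ext.mk₀ (inv ((homologyFunctor B n).map ((t.truncLEι n).app C)))) (add_zero 0)
      left_inv := fun x => by
        beta_reduce
        rw [Ext.comp_assoc_of_third_deg_zero, Ext.mk₀_comp_mk₀, IsIso.hom_inv_id, Ext.comp_mk₀_id]
      right_inv := fun x => by
        beta_reduce
        rw [Ext.comp_assoc_of_third_deg_zero, Ext.mk₀_comp_mk₀, IsIso.inv_hom_id, Ext.comp_mk₀_id]
      map_add' := fun x y => Ext.add_comp _ _ _ _ }
  exact ⟨(AddEquiv.ofBijective c hc).symm.trans (e1.trans e3)⟩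

/-- The Euler characteristic of a triangle whose third term has acyclic rows. -/
theorem triangle_chi (Z : B) (T : Triangle (DerivedCategory B)) (hT : T ∈ distTriang _)
    (hC : T.obj₃.IsGE (-1)) (h2 : T.obj₂.IsGE 0)
    (h : ∀ (q : ℤ) (j : ℕ), 1 ≤ j → Subsingleton (Ext.{w} Z ((homologyFunctor B q).obj T.obj₃) j))
    (gA : Good (HD ((singleFunctor B 0).obj Z) T.obj₁)) (gB : Good (HD ((singleFunctor B 0).obj Z) T.obj₂)) :
    Good (fun q : ℕ => Ext.{w} Z ((homologyFunctor B (q : ℤ)).obj T.obj₃) 0) ∧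
    Finite (Ext.{w} Z ((homologyFunctor B (-1)).obj T.obj₃) 0) ∧
    (∀ q : ℕ, Subsingleton (HD ((singleFunctor B 0).obj Z) T.obj₂ q) →
      Subsingleton (HD ((singleFunctor B 0).obj Z) T.obj₁ (q + 1)) →
      Subsingleton (Ext.{w} Z ((homologyFunctor B (q : ℤ)).obj T.obj₃) 0)) ∧
    chi (HD ((singleFunctor B 0).obj Z) T.obj₂) - chi (HD ((singleFunctor B 0).obj Z) T.obj₁) =
      chi (fun q : ℕ => Ext.{w} Z ((homologyFunctor B (q : ℤ)).obj T.obj₃) 0) -
        lg (Ext.{w} Z ((homologyFunctor B (-1)).obj T.obj₃) 0) := by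
  let Z' := (singleFunctor B 0).obj Z
  have e : ∀ n : ℤ, Nonempty ((Z' ⟶ T.obj₃⟦n⟧) ≃+ Ext.{w} Z ((homologyFunctor B n).obj T.obj₃) 0) := fun n =>
    nonempty_equiv_row.{w} (-1) n Z T.obj₃ h
  have gC : Good (HD Z' T.obj₃) :=
    Groth.Agent.Lefpen.H714.EulerAlg.good_right (fun n => hf Z' T.mor₂ (n : ℤ)) (fun n => hd Z' T (n : ℤ))
      (h2 := fun n => exact23 Z' T hT n) gA gB
  have hk0 : ∀ x : Z' ⟶ T.obj₂⟦(-1 : ℤ)⟧, x = 0 := fun x =>
    ge_hom_eq_zero Z T.obj₂ 0 (-1) (by lia) x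
  have hk : Function.Injective (hd Z' T (-1)) := by
    rw [injective_iff_map_eq_zero]
    intro x hx
    obtain ⟨y, hy⟩ := (exact23 Z' T hT (-1) x).1 hx
    rw [← hy, hk0 y, map_zero]
  have h0 : Function.Exact (hd Z' T (-1)) (hf Z' T.mor₁ (-1 + 1)) := exact31 Z' T hT (-1)
  have fK : Finite (Z' ⟶ T.obj₃⟦(-1 : ℤ)⟧) := by
    have h5 : Finite (Z' ⟶ T.obj₁⟦(-1 + 1 : ℤ)⟧) := gA.fin 0
    exact Finite.of_injective _ hk
  have key := chi_add' (A := HD Z' T.obj₁) (B := HD Z' T.obj₂) (C := HD Z' T.obj₃)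
    (K := Z' ⟶ T.obj₃⟦(-1 : ℤ)⟧) (hd Z' T (-1)) (fun n => hf Z' T.mor₁ (n : ℤ)) (fun n => hf Z' T.mor₂ (n : ℤ))
    (fun n => hd Z' T (n : ℤ)) hk h0 (fun n => exact12 Z' T hT n) (fun n => exact23 Z' T hT n)
    (fun n => exact31 Z' T hT n) gA gB gC
  refine ⟨gC.congr fun n => ⟨(e n).some.toEquiv⟩, Finite.of_equiv _ (e (-1)).some.toEquiv,
    fun q h3 h4 => ?_, ?_⟩
  · have h4' : Subsingleton (Z' ⟶ T.obj₁⟦(q : ℤ) + 1⟧) := h4
    have h5 : Subsingleton (HD Z' T.obj₃ q) :=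
      subsingleton_of_exact (hf Z' T.mor₂ (q : ℤ)) (hd Z' T (q : ℤ)) (exact23 Z' T hT q)
    exact (e q).some.symm.toEquiv.subsingleton
  · rw [key, lg_congr (e (-1)).some.toEquiv,
      chi_congr (B := fun q : ℕ => Ext.{w} Z ((homologyFunctor B (q : ℤ)).obj T.obj₃) 0)
        (fun n => ⟨(e n).some.toEquiv⟩)]

end D

end Groth.Agent.Vancyc.H697.MultiRow
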