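import Groth.Agent.Vancyc.H697.MultiRow
import Groth.Agent.Vancyc.H679.EtLES
import Groth.Agent.Lefpen.H714.EulerEt

/-!
# Euler characteristics and the unit `F ⟶ Rg_* g^* F`, all rows acyclic

If `H^j(Y, -) = 0` for `j ≥ 1` on kernel and cokernel of `F ⟶ g_* g^* F` and on the `R^q g_* g^* F`, `q ≥ 1`, then
`e(X, g^* F) - e(Y, F) = ∑_q (-1)^q lg H^0(Y, V q) - lg H^0(Y, ker)` with `V 0` the cokernel and `V q = R^q g_* g^* F`.
-/

set_option autoImplicit false
set_option linter.auxLemma false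
universe w₁ w₂ w w' v v' u u'
open CategoryTheory CategoryTheory.Limits CategoryTheory.Pretriangulated DerivedCategory Opposite
open CategoryTheory.Abelian AlgebraicGeometry

namespace Groth.Agent.Vancyc.H697.MultiRowEt

open Groth.Agent.Lefpen.H714.EulerAlg Groth.Agent.Lefpen.H714.EulerD Groth.Agent.Sga4B
open Groth.Agent.Vancyc.H679.ConeLES DerivedCategory.TStructure Groth.Agent.Vancyc.H679.AdjLES
open Groth.Agent.Vancyc.H697.MultiRow

section Abstract

open Groth.Agent.Etrest.RDer3 Groth.Agent.Etrest.RDer4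

variable {B : Type u} [Category.{v} B] [Abelian B] {A : Type u'} [Category.{v'} A] [Abelian A]
  [HasExt.{w} B] [HasExt.{w'} A] [HasKInj A] [EnoughInjectives A] [HasInjectiveResolutions A]
  {L : B ⥤ A} [L.Additive] [PreservesFiniteLimits L] [PreservesFiniteColimits L]
  {G : A ⥤ B} [G.Additive] [PreservesFiniteLimits G] (adj : L ⊣ G)

/-- The rows: the cokernel of the unit in degree `0`, the derived functors in positive degrees. -/
noncomputable def V (Y : B) : ℕ → B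
  | 0 => cokernel (adj.unit.app Y)
  | q + 1 => (G.rightDerived (q + 1)).obj (L.obj Y)

omit [L.Additive] [PreservesFiniteLimits L] [PreservesFiniteColimits L] [G.Additive] [PreservesFiniteLimits G]
  [HasExt.{w} B] [HasExt.{w'} A] [HasKInj A] [EnoughInjectives A] [HasInjectiveResolutions A] in
theorem ext_equiv_of_iso [HasExt.{w} B] {Z W W' : B} (e : W ≅ W') (j : ℕ) :
    Nonempty (Ext.{w} Z W j ≃+ Ext.{w} Z W' j) :=
  ⟨{ toFun := fun x => x.comp (Ext.mk₀ e.hom) (add_zero j)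
     invFun := fun x => x.comp (Ext.mk₀ e.inv) (add_zero j)
     left_inv := fun x => by
       beta_reduce
       rw [Ext.comp_assoc_of_third_deg_zero, Ext.mk₀_comp_mk₀, Iso.hom_inv_id, Ext.comp_mk₀_id]
     right_inv := fun x => by
       beta_reduce
       rw [Ext.comp_assoc_of_third_deg_zero, Ext.mk₀_comp_mk₀, Iso.inv_hom_id, Ext.comp_mk₀_id]
     map_add' := fun x y => Ext.add_comp _ _ _ _ }⟩

theorem main (Z Y : B)
    (hK : ∀ j : ℕ, 1 ≤ j → Subsingleton (Ext.{w} Z (kernel (adj.unit.app Y)) j))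
    (hV : ∀ q j : ℕ, 1 ≤ j → Subsingleton (Ext.{w} Z (V adj Y q) j))
    (gA : Good (fun n => Ext.{w} Z Y n)) (gB : Good (fun n => Ext.{w'} (L.obj Z) (L.obj Y) n)) :
    Good (fun q => Ext.{w} Z (V adj Y q) 0) ∧ Finite (Ext.{w} Z (kernel (adj.unit.app Y)) 0) ∧
    (∀ q, Subsingleton (Ext.{w'} (L.obj Z) (L.obj Y) q) → Subsingleton (Ext.{w} Z Y (q + 1)) →
      Subsingleton (Ext.{w} Z (V adj Y q) 0)) ∧
    chi (fun n => Ext.{w'} (L.obj Z) (L.obj Y) n) - chi (fun n => Ext.{w} Z Y n) =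
      chi (fun q => Ext.{w} Z (V adj Y q) 0) - lg (Ext.{w} Z (kernel (adj.unit.app Y)) 0) := by
  let := HasDerivedCategory.standard B
  let := HasDerivedCategory.standard A
  have hTG := isGE_T (L := L) (G := G) Y
  let u : (singleFunctor B 0).obj Y ⟶ (TR G).obj (L.mapDerivedCategory.obj ((singleFunctor B 0).obj Y)) :=
    (dAdj adj).unit.app ((singleFunctor B 0).obj Y)
  obtain ⟨C, g, h, hT⟩ := distinguished_cocone_triangle u
  let e := arrowIsoSingle adj Y
  let e' : Arrow.mk ((homologyFunctor B 0).map u) ≅ Arrow.mk (adj.unit.app Y) := e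
  let ek : kernel ((homologyFunctor B 0).map u) ≅ kernel (adj.unit.app Y) :=
    kernel.mapIso _ _ (Arrow.leftFunc.mapIso e') (Arrow.rightFunc.mapIso e') e'.hom.w.symm
  let ec : cokernel ((homologyFunctor B 0).map u) ≅ cokernel (adj.unit.app Y) :=
    cokernel.mapIso _ _ (Arrow.leftFunc.mapIso e') (Arrow.rightFunc.mapIso e') e'.hom.w.symm
  have hC := isGE_cone u g h hT
  have iV : ∀ q : ℕ, Nonempty ((homologyFunctor B (q : ℤ)).obj C ≅ V adj Y q) := by
    intro q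
    match q with
    | 0 =>
      obtain ⟨e1⟩ := nonempty_iso_H_cone_zero u g h hT
      exact ⟨e1.symm ≪≫ ec⟩
    | q + 1 =>
      have := isIso_H_cone u g h hT ((q + 1 : ℕ) : ℤ) (by lia) (by lia)
      exact ⟨(asIso ((homologyFunctor B ((q + 1 : ℕ) : ℤ)).map g)).symm ≪≫
        homologyIso (L := L) (G := G) Y (q + 1)⟩
  obtain ⟨iK⟩ := nonempty_iso_H_cone_neg u g h hT
  have hrow : ∀ (q : ℤ) (j : ℕ), 1 ≤ j → Subsingleton (Ext.{w} Z ((homologyFunctor B q).obj C) j) := by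
    intro q j hj
    rcases lt_trichotomy q (-1) with hq | rfl | hq
    · exact subsingleton_ext_isZero (isZero_of_isGE C (-1) q hq) j
    · exact subsingleton_ext_iso (iK ≪≫ ek).symm j (hK j hj)
    · obtain ⟨q, rfl⟩ := Int.eq_ofNat_of_zero_le (a := q) (by lia)
      exact subsingleton_ext_iso (iV q).some.symm j (hV q j hj)
  have eA : ∀ n : ℕ, Nonempty (HD ((singleFunctor B 0).obj Z) ((singleFunctor B 0).obj Y) n ≃+ Ext.{w} Z Y n) :=
    fun n => ⟨Ext.homAddEquiv.symm⟩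
  have eB : ∀ n : ℕ, Nonempty (HD ((singleFunctor B 0).obj Z)
      ((TR G).obj (L.mapDerivedCategory.obj ((singleFunctor B 0).obj Y))) n ≃+ Ext.{w'} (L.obj Z) (L.obj Y) n) :=
    fun n => ⟨(exists_eqv.{_, _, w, w'} (dAdj adj) Z Y n).choose⟩
  obtain ⟨m1, m2, m3, m4⟩ := triangle_chi.{w} Z (Triangle.mk u g h) hT hC hTG hrow
    (gA.congr fun n => ⟨(eA n).some.symm.toEquiv⟩) (gB.congr fun n => ⟨(eB n).some.symm.toEquiv⟩)
  have iV' : ∀ q : ℕ, Nonempty (Ext.{w} Z ((homologyFunctor B (q : ℤ)).obj C) 0 ≃+ Ext.{w} Z (V adj Y q) 0) :=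
    fun q => ext_equiv_of_iso (iV q).some 0
  obtain ⟨iK'⟩ : Nonempty (Ext.{w} Z ((homologyFunctor B (-1)).obj C) 0 ≃+
      Ext.{w} Z (kernel (adj.unit.app Y)) 0) := ext_equiv_of_iso (iK ≪≫ ek) 0
  refine ⟨m1.congr fun q => ⟨(iV' q).some.toEquiv⟩, @Finite.of_equiv _ _ m2 iK'.toEquiv, fun q h3 h4 => ?_, ?_⟩
  · have h5 : Subsingleton (Ext.{w} Z ((homologyFunctor B (q : ℤ)).obj C) 0) :=
      m3 q (eB q).some.toEquiv.subsingleton (eA (q + 1)).some.toEquiv.subsingleton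
    exact (iV' q).some.symm.toEquiv.subsingleton
  · rw [← lg_congr iK'.toEquiv]
    refine Eq.trans (congrArg₂ (· - ·) (chi_congr fun n => ⟨(eB n).some.symm.toEquiv⟩)
      (chi_congr fun n => ⟨(eA n).some.symm.toEquiv⟩)) (m4.trans (congrArg₂ (· - ·) ?_ rfl))
    exact chi_congr fun q => ⟨(iV' q).some.toEquiv⟩

end Abstract

section Etale

open Groth.Agent.Lefpen.H714.EulerEt

attribute [local instance 10000] EtCoh.H._proof_1 EtCoh.Rpush._proof_2
attribute [local instance 10000] Groth.Agent.Sga4B.TwoRowEt.he Groth.Agent.Sga4B.TwoRowEt.hinj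
attribute [local instance 10000] Groth.Agent.Sga4B.TwoRowEt.hPullAdd Groth.Agent.Sga4B.TwoRowEt.hPullPFC
attribute [local instance 10000] Groth.Agent.Sga4B.TwoRowEt.hasKInj

variable {X Y : Scheme.{u}} (g : X ⟶ Y) (F : EtCoh.Ab Y)

/-- The rows of the cone of `F ⟶ Rg_* g^* F` in degrees `≥ 0`. -/
noncomputable abbrev VE (q : ℕ) : EtCoh.Ab Y := V (EtCoh.pullPushAdj g) F q

theorem VE_zero : VE g F 0 = cokernel ((EtCoh.pullPushAdj g).unit.app F) := rfl

theorem VE_succ (q : ℕ) : VE g F (q + 1) = (EtCoh.Rpush g (q + 1)).obj ((EtCoh.pull g).obj F) := rfl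

/-- The Euler characteristic of `g^* F` in terms of punctual rows. -/
theorem main_et [PreservesFiniteLimits (EtCoh.pull g)]
    (hK : ∀ j : ℕ, 1 ≤ j → Subsingleton (EtCoh.H Y (kernel ((EtCoh.pullPushAdj g).unit.app F)) j))
    (hV : ∀ q j : ℕ, 1 ≤ j → Subsingleton (EtCoh.H Y (VE g F q) j))
    (gA : GoodE Y F) (gB : GoodE X ((EtCoh.pull g).obj F)) :
    Good (fun q => EtCoh.H Y (VE g F q) 0) ∧
    Finite (EtCoh.H Y (kernel ((EtCoh.pullPushAdj g).unit.app F)) 0) ∧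
    (∀ q, Subsingleton (EtCoh.H X ((EtCoh.pull g).obj F) q) → Subsingleton (EtCoh.H Y F (q + 1)) →
      Subsingleton (EtCoh.H Y (VE g F q) 0)) ∧
    e X ((EtCoh.pull g).obj F) - e Y F =
      chi (fun q => EtCoh.H Y (VE g F q) 0) -
        lg (EtCoh.H Y (kernel ((EtCoh.pullPushAdj g).unit.app F)) 0) := by
  have hp := Groth.Agent.Vancyc.H679.EtLES.hPushPFL g
  have eB : ∀ n : ℕ, Ext.{u + 1} ((EtCoh.pull g).obj (EtCoh.const Y ℤ)) ((EtCoh.pull g).obj F) n ≃+
      EtCoh.H X ((EtCoh.pull g).obj F) n := fun n => Groth.Agent.Vancyc.H679.EtLES.preC g _ n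
  obtain ⟨m1, m2, m3, m4⟩ := main.{u + 1, u + 1} (EtCoh.pullPushAdj g) (EtCoh.const Y ℤ) F hK hV gA
    (Good.congr (fun n => ⟨(eB n).symm.toEquiv⟩) gB)
  refine ⟨m1, m2, fun q h3 h4 => m3 q (eB q).toEquiv.subsingleton h4, ?_⟩
  refine Eq.trans (congrArg₂ (· - ·) (chi_congr fun n => ⟨(eB n).symm.toEquiv⟩) rfl) m4

end Etale

end Groth.Agent.Vancyc.H697.MultiRowEt
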