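import Groth.Agent.Vancyc.H697.MultiRowEt
import Groth.Agent.Vancyc.H697.EulerConv
import Groth.Agent.Vancyc.H679.PropLES

/-!
# Euler characteristic of the vanishing cycles with punctual support

For `g : W ⟶ T` and `i : T₀ ⟶ T` with the proper base change property and `F` killed by `N` without vanishing cycles
outside the finite set `Sig`: `e(W, g^* F) - e(T, F) = ∑_{x ∈ Sig} (χ(R^• g_* g^* F)_x - lg F_x)`.
-/

set_option autoImplicit false
set_option linter.auxLemma false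
universe u
open CategoryTheory CategoryTheory.Limits CategoryTheory.Abelian AlgebraicGeometry Opposite

namespace Groth.Agent.Vancyc.H697.PunctEuler

open Groth.Agent Groth.Agent.Vancyc.H679.PropLES Groth.Agent.Lefpen.H714.EulerEt
open Groth.Agent.Vancyc.H697.MultiRowEt Groth.Agent.Vancyc.H697.EulerConv
open Groth.Agent.Lefpen.H714.EulerAlg (lg chi lg_congr chi_congr chi_eq_sum lg_of_subsingleton)

/-- `R^0 g_* = g_*`. -/
noncomputable def rpushZero {W T : Scheme.{u}} (g : W ⟶ T) : EtCoh.Rpush g 0 ≅ EtCoh.push g :=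
  (EtCoh.push g).rightDerivedZeroIsoSelf

/-- `lg` of the two ends of an exact sequence `0 → ker u → A → B → coker u → 0` of finite groups. -/
theorem lg_ker_coker {A B : AddCommGrpCat.{u}} (f : A ⟶ B) (hA : Finite A) (hB : Finite B) :
    Finite ↥(kernel f) ∧ Finite ↥(cokernel f) ∧
    lg ↥(cokernel f) - lg ↥(kernel f) = lg B - lg A := by
  have h1 : Function.Injective (kernel.ι f) := (AddCommGrpCat.mono_iff_injective _).1 inferInstance
  have h2 : Function.Surjective (cokernel.π f) := (AddCommGrpCat.epi_iff_surjective _).1 inferInstance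
  have e1 : (ShortComplex.mk (kernel.ι f) f (kernel.condition f)).Exact := ShortComplex.exact_kernel f
  have e2 : (ShortComplex.mk f (cokernel.π f) (cokernel.condition f)).Exact := ShortComplex.exact_cokernel f
  rw [ShortComplex.ab_exact_iff_function_exact] at e1 e2
  exact ⟨Finite.of_injective _ h1, Finite.of_surjective _ h2,
    lg_four (kernel.ι f).hom f.hom (cokernel.π f).hom h1 e1 e2 h2⟩

/-- Finiteness of the target from finiteness of source and cokernel. -/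
theorem finite_of_coker {A B : AddCommGrpCat.{u}} (f : A ⟶ B) (hA : Finite A) (hC : Finite ↥(cokernel f)) :
    Finite B := by
  have e2 : (ShortComplex.mk f (cokernel.π f) (cokernel.condition f)).Exact := ShortComplex.exact_cokernel f
  rw [ShortComplex.ab_exact_iff_function_exact] at e2
  exact Groth.Agent.Lefpen.H714.EulerAlg.finite_of_exact f.hom (cokernel.π f).hom e2

section Punct

variable {T₀ T : Scheme.{u}} (i : T₀ ⟶ T) [PreservesFiniteLimits (EtCoh.pull i)] (hi : PBCi i)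
  (Sig : Finset T₀) (hc : ∀ x ∈ Sig, IsClosed ({x} : Set T₀)) (hs : ∀ x ∈ Sig, IsSepClosed (T₀.residueField x))
  (Ω : T₀ → Type u) [∀ x, Field (Ω x)] [∀ x, IsSepClosed (Ω x)]
  (ξ : ∀ x : T₀, Spec (CommRingCat.of (Ω x)) ⟶ T₀) (hξ : ∀ x, ξ x default = x)
  (P : EtCoh.Ab T) (hP : EtCoh.IsTorsion P)
  (h0 : ∀ x : T₀, x ∉ Sig → IsZero ((EtCoh.stalk (ξ x)).obj ((EtCoh.pull i).obj P)))

/-- The stalk at `ξ x` of the restriction to `T₀`. -/
noncomputable abbrev st (P : EtCoh.Ab T) (x : T₀) : AddCommGrpCat.{u + 1} :=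
  (EtCoh.stalk (ξ x)).obj ((EtCoh.pull i).obj P)

omit [PreservesFiniteLimits (EtCoh.pull i)] in
theorem nonempty_stalk (x : T₀) : Nonempty ↥(st i Ω ξ P x) := ⟨0⟩

include hi hc hs hξ hP h0

theorem punct_subsingleton (j : ℕ) (hj : 1 ≤ j) : Subsingleton (EtCoh.H T P j) :=
  subsingleton_H i hi Sig hc hs P hP
    (fun x hx => ⟨Ω x, inferInstance, inferInstance, ξ x, hξ x, h0 x hx⟩) j hj

theorem punct_equiv : Nonempty (EtCoh.H T P 0 ≃+ ∀ x : Sig, ↥(st i Ω ξ P x)) :=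
  nonempty_equiv i hi Sig hc hs P hP
    (fun x hx => ⟨Ω x, inferInstance, inferInstance, ξ x, hξ x, h0 x hx⟩) Ω ξ hξ

theorem punct_finite (hfin : Finite (EtCoh.H T P 0)) (x : T₀) (hx : x ∈ Sig) : Finite ↥(st i Ω ξ P x) := by
  obtain ⟨e⟩ := punct_equiv i hi Sig hc hs Ω ξ hξ P hP h0
  have h1 : Finite (∀ x : Sig, ↥(st i Ω ξ P x)) := Finite.of_equiv _ e.toEquiv
  have : ∀ x : Sig, Nonempty ↥(st i Ω ξ P x) := fun x => nonempty_stalk i Ω ξ P x
  exact Finite.of_surjective _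
    (Function.surjective_eval (β := fun x : Sig => ↥(st i Ω ξ P x)) (⟨x, hx⟩ : Sig))

theorem punct_subsingleton_stalk (hfin : Subsingleton (EtCoh.H T P 0)) (x : T₀) (hx : x ∈ Sig) :
    Subsingleton ↥(st i Ω ξ P x) := by
  obtain ⟨e⟩ := punct_equiv i hi Sig hc hs Ω ξ hξ P hP h0
  have h1 : Subsingleton (∀ x : Sig, ↥(st i Ω ξ P x)) := e.symm.toEquiv.subsingleton
  have : ∀ x : Sig, Nonempty ↥(st i Ω ξ P x) := fun x => nonempty_stalk i Ω ξ P x
  exact (Function.surjective_eval (β := fun x : Sig => ↥(st i Ω ξ P x)) (⟨x, hx⟩ : Sig)).subsingleton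

theorem punct_lg (hfin : Finite (EtCoh.H T P 0)) : lg (EtCoh.H T P 0) = ∑ x ∈ Sig, lg ↥(st i Ω ξ P x) := by
  obtain ⟨e⟩ := punct_equiv i hi Sig hc hs Ω ξ hξ P hP h0
  rw [lg_congr e.toEquiv]
  exact lg_pi Sig (fun x => ↥(st i Ω ξ P x))
    (fun x hx => punct_finite i hi Sig hc hs Ω ξ hξ P hP h0 hfin x hx) fun x => nonempty_stalk i Ω ξ P x

end Punct

section Main

variable {T₀ T W : Scheme.{u}} (i : T₀ ⟶ T) [PreservesFiniteLimits (EtCoh.pull i)] (hi : PBCi i)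
  (Sig : Finset T₀) (hc : ∀ x ∈ Sig, IsClosed ({x} : Set T₀)) (hs : ∀ x ∈ Sig, IsSepClosed (T₀.residueField x))
  (g : W ⟶ T) [PreservesFiniteLimits (EtCoh.pull g)] {N : ℕ} (hN : 0 < N) (F : EtCoh.Ab T)
  (hF : EtCoh.KilledBy N F)
  (Ω : T₀ → Type u) [∀ x, Field (Ω x)] [∀ x, IsSepClosed (Ω x)]
  (ξ : ∀ x : T₀, Spec (CommRingCat.of (Ω x)) ⟶ T₀) (hξ : ∀ x, ξ x default = x)
  (h1 : ∀ x : T₀, x ∉ Sig → Good i g F x)
  (hFf : ∀ x ∈ Sig, Finite ↥(st i Ω ξ F x))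
  (gA : GoodE T F) (gB : GoodE W ((EtCoh.pull g).obj F))

include hi hc hs hN hF hξ h1 hFf gA gB in
theorem main :
    (∀ x ∈ Sig, Groth.Agent.Lefpen.H714.EulerAlg.Good (fun q => ↥(rObj i g F q (ξ x)))) ∧
    (∀ q, 1 ≤ q → Subsingleton (EtCoh.H W ((EtCoh.pull g).obj F) q) → Subsingleton (EtCoh.H T F (q + 1)) →
      ∀ x ∈ Sig, Subsingleton ↥(rObj i g F q (ξ x))) ∧
    e W ((EtCoh.pull g).obj F) - e T F =
      ∑ x ∈ Sig, (chi (fun q => ↥(rObj i g F q (ξ x))) - lg ↥(st i Ω ξ F x)) := by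
  set u := (EtCoh.pullPushAdj g).unit.app F with hu
  have hG : EtCoh.KilledBy N ((EtCoh.pull g).obj F) := EtpbcB.NKillEt.killedBy_pull g hF
  have hP : EtCoh.KilledBy N ((EtCoh.push g).obj ((EtCoh.pull g).obj F)) := EtpbcB.NKillEt.killedBy_push g hG
  have hK : EtCoh.IsTorsion (kernel u) := isTorsion_killed hN (EtpbcA.SubSheaf.killedBy_of_mono (kernel.ι u) hF)
  have hC : EtCoh.IsTorsion (cokernel u) := isTorsion_killed hN (EtpbcA.SubSheaf.killedBy_of_epi (cokernel.π u) hP)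
  have hR : ∀ q : ℕ, EtCoh.IsTorsion ((EtCoh.Rpush g q).obj ((EtCoh.pull g).obj F)) := fun q =>
    isTorsion_killed hN (killed_Rpush g hG q)
  have hV : ∀ q : ℕ, EtCoh.IsTorsion (VE g F q) := fun q => by
    match q with
    | 0 => exact hC
    | q + 1 => exact hR (q + 1)
  have zK : ∀ x : T₀, x ∉ Sig → IsZero ((EtCoh.stalk (ξ x)).obj ((EtCoh.pull i).obj (kernel u))) := fun x hx => by
    refine isZero_map_kernel (EtCoh.pull i ⋙ EtCoh.stalk (ξ x)) u ?_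
    have h2 : IsIso (uMap i g F (ξ x)) := (h1 x hx (Ω x) (ξ x) (hξ x)).1
    exact (inferInstance : Mono (uMap i g F (ξ x)))
  have zV : ∀ (q : ℕ) (x : T₀), x ∉ Sig → IsZero ((EtCoh.stalk (ξ x)).obj ((EtCoh.pull i).obj (VE g F q))) := by
    intro q x hx
    match q with
    | 0 =>
      refine isZero_map_cokernel (EtCoh.pull i ⋙ EtCoh.stalk (ξ x)) u ?_
      have h2 : IsIso (uMap i g F (ξ x)) := (h1 x hx (Ω x) (ξ x) (hξ x)).1
      exact (inferInstance : Epi (uMap i g F (ξ x)))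
    | q + 1 => exact (h1 x hx (Ω x) (ξ x) (hξ x)).2 (q + 1) (by omega)
  obtain ⟨m1, m2, m3, m4⟩ := main_et g F
    (fun j hj => punct_subsingleton i hi Sig hc hs Ω ξ hξ _ hK zK j hj)
    (fun q j hj => punct_subsingleton i hi Sig hc hs Ω ξ hξ _ (hV q) (zV q) j hj) gA gB
  -- stalks
  have fV : ∀ (q : ℕ) (x : T₀), x ∈ Sig → Finite ↥(st i Ω ξ (VE g F q) x) := fun q x hx =>
    punct_finite i hi Sig hc hs Ω ξ hξ _ (hV q) (zV q) (m1.fin q) x hx
  let Φ : T₀ → (EtCoh.Ab T ⥤ AddCommGrpCat.{u + 1}) := fun x => EtCoh.pull i ⋙ EtCoh.stalk (ξ x)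
  have eC : ∀ x : T₀, Nonempty (↥(st i Ω ξ (VE g F 0) x) ≃ ↥(cokernel ((Φ x).map u))) := fun x =>
    ⟨(PreservesCokernel.iso (Φ x) u).addCommGroupIsoToAddEquiv.toEquiv⟩
  have eK : ∀ x : T₀, Nonempty (↥(st i Ω ξ (kernel u) x) ≃ ↥(kernel ((Φ x).map u))) := fun x =>
    ⟨(PreservesKernel.iso (Φ x) u).addCommGroupIsoToAddEquiv.toEquiv⟩
  have eR : ∀ x : T₀, Nonempty (↥(rObj i g F 0 (ξ x)) ≃
      ↥((Φ x).obj ((EtCoh.push g).obj ((EtCoh.pull g).obj F)))) := fun x =>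
    ⟨((Φ x).mapIso ((rpushZero g).app _)).addCommGroupIsoToAddEquiv.toEquiv⟩
  have fP : ∀ x ∈ Sig, Finite ↥((Φ x).obj ((EtCoh.push g).obj ((EtCoh.pull g).obj F))) := fun x hx => by
    have h3 : Finite ↥(cokernel ((Φ x).map u)) := @Finite.of_equiv _ _ (fV 0 x hx) (eC x).some
    exact finite_of_coker ((Φ x).map u) (hFf x hx) h3
  have key : ∀ x ∈ Sig, lg ↥(st i Ω ξ (VE g F 0) x) - lg ↥(st i Ω ξ (kernel u) x) =
      lg ↥(rObj i g F 0 (ξ x)) - lg ↥(st i Ω ξ F x) := fun x hx => by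
    rw [lg_congr (eC x).some, lg_congr (eK x).some, lg_congr (eR x).some]
    exact (lg_ker_coker ((Φ x).map u) (hFf x hx) (fP x hx)).2.2
  obtain ⟨b, hb⟩ := m1.bdd
  have sV : ∀ (q : ℕ), b < q → ∀ x ∈ Sig, Subsingleton ↥(st i Ω ξ (VE g F q) x) := fun q hq x hx =>
    punct_subsingleton_stalk i hi Sig hc hs Ω ξ hξ _ (hV q) (zV q) (hb q hq) x hx
  refine ⟨fun x hx => ⟨fun q => ?_, ⟨b, fun q hq => ?_⟩⟩, fun q hq h3 h4 x hx => ?_, ?_⟩
  · match q with
    | 0 => exact @Finite.of_equiv _ _ (fP x hx) (eR x).some.symm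
    | q + 1 => exact fV (q + 1) x hx
  · obtain ⟨q, rfl⟩ : ∃ q', q = q' + 1 := ⟨q - 1, by omega⟩
    exact sV (q + 1) hq x hx
  · obtain ⟨q, rfl⟩ : ∃ q', q = q' + 1 := ⟨q - 1, by omega⟩
    exact punct_subsingleton_stalk i hi Sig hc hs Ω ξ hξ _ (hV (q + 1)) (zV (q + 1)) (m3 (q + 1) h3 h4) x hx
  · rw [m4, chi_eq_sum b hb, punct_lg i hi Sig hc hs Ω ξ hξ _ hK zK m2,
      Finset.sum_congr rfl fun q _ => by rw [punct_lg i hi Sig hc hs Ω ξ hξ _ (hV q) (zV q) (m1.fin q),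
        Finset.mul_sum], Finset.sum_comm, ← Finset.sum_sub_distrib]
    refine Finset.sum_congr rfl fun x hx => ?_
    have hb' : ∀ q, b < q → Subsingleton ↥(rObj i g F q (ξ x)) := fun q hq => by
      obtain ⟨q, rfl⟩ : ∃ q', q = q' + 1 := ⟨q - 1, by omega⟩
      exact sV (q + 1) hq x hx
    rw [chi_eq_sum b hb', Finset.sum_range_succ', Finset.sum_range_succ']
    have k := key x hx
    have hh : ∑ k ∈ Finset.range b, (-1 : ℝ) ^ (k + 1) * lg ↑(st i Ω ξ (VE g F (k + 1)) x) =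
      ∑ k ∈ Finset.range b, (-1 : ℝ) ^ (k + 1) * lg ↑(rObj i g F (k + 1) (ξ x)) := rfl
    simp only [pow_zero, one_mul]
    linear_combination k + hh

end Main

end Groth.Agent.Vancyc.H697.PunctEuler
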